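import Mathlib

/-! Comparison of left exact sequences of resolutions. -/

set_option autoImplicit false
set_option linter.style.haveILetI false
universe v u

open CategoryTheory Limits

namespace LadderResLib

variable {V : Type u} [Category.{v} V] [Abelian V]

theorem extend {X C I : V} [Injective I] (w : X ⟶ C) (h : X ⟶ I)
    (hk : ∀ ⦃T : V⦄ (t : T ⟶ X), t ≫ w = 0 → t ≫ h = 0) : ∃ g : C ⟶ I, w ≫ g = h := by
  let h' : Abelian.coimage w ⟶ I := cokernel.desc (kernel.ι w) h (hk _ (kernel.condition w))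
  refine ⟨Injective.factorThru h' (Abelian.factorThruCoimage w), ?_⟩
  refine (congrArg (· ≫ _) (Abelian.coimage.fac w).symm).trans ?_
  show (_ ≫ _) ≫ _ = _
  rw [Category.assoc, Injective.comp_factorThru]
  exact cokernel.π_desc _ _ _

theorem extend₂ {A B C I : V} [Injective I] (u : A ⟶ C) (v : B ⟶ C) (a : A ⟶ I) (b : B ⟶ I)
    (hk : ∀ ⦃T : V⦄ (x : T ⟶ A) (y : T ⟶ B), x ≫ u + y ≫ v = 0 → x ≫ a + y ≫ b = 0) :
    ∃ g : C ⟶ I, u ≫ g = a ∧ v ≫ g = b := by
  obtain ⟨g, hg⟩ := extend (biprod.desc u v) (biprod.desc a b) (fun T t ht => by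
    have e : t = biprod.lift (t ≫ biprod.fst) (t ≫ biprod.snd) := by ext <;> simp
    rw [e, biprod.lift_desc] at ht ⊢
    exact hk _ _ ht)
  exact ⟨g, by simpa using biprod.inl ≫= hg, by simpa using biprod.inr ≫= hg⟩

variable {C : CochainComplex V ℕ}

theorem exists_preimage (hC : ∀ n, 0 < n → C.ExactAt n) {T : V} (n : ℕ) (x : T ⟶ C.X (n + 1))
    (hx : x ≫ C.d (n + 1) (n + 2) = 0) :
    ∃ (T' : V) (π : T' ⟶ T) (_ : Epi π) (a : T' ⟶ C.X n), π ≫ x = a ≫ C.d n (n + 1) := by
  have h := ((HomologicalComplex.exactAt_iff' C n (n + 1) (n + 2) (by simp) (by simp)).mp (hC (n + 1) n.succ_pos))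
  obtain ⟨T', π, hπ, a, ha⟩ := h.exact_up_to_refinements x hx
  exact ⟨T', π, hπ, a, ha⟩

/-- a map killing cycles after the differential -/
def Kills (C I : CochainComplex V ℕ) (n : ℕ) (f : C.X n ⟶ I.X n) : Prop :=
  ∀ ⦃T : V⦄ (x : T ⟶ C.X n), x ≫ C.d n (n + 1) = 0 → x ≫ f ≫ I.d n (n + 1) = 0

theorem exists_hom {D I : CochainComplex V ℕ} (j : D ⟶ C) (φ : D ⟶ I) (hC : ∀ n, 0 < n → C.ExactAt n)
    (hI : ∀ n, Injective (I.X n)) (G : C.cycles 0 ⟶ I.cycles 0)
    (h0 : ∀ ⦃T : V⦄ (x : T ⟶ C.cycles 0) (y : T ⟶ D.X 0), x ≫ C.iCycles 0 + y ≫ j.f 0 = 0 →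
      (x ≫ G) ≫ I.iCycles 0 + y ≫ φ.f 0 = 0)
    (hstep : ∀ (n : ℕ) (f : C.X n ⟶ I.X n), j.f n ≫ f = φ.f n → Kills C I n f →
      ∀ ⦃T : V⦄ (x : T ⟶ C.X n) (y : T ⟶ D.X (n + 1)), x ≫ C.d n (n + 1) + y ≫ j.f (n + 1) = 0 →
        x ≫ f ≫ I.d n (n + 1) + y ≫ φ.f (n + 1) = 0) :
    ∃ f : C ⟶ I, j ≫ f = φ ∧ HomologicalComplex.cyclesMap f 0 = G := by
  haveI := hI
  obtain ⟨f₀, hf₀, hf₀'⟩ := extend₂ (C.iCycles 0) (j.f 0) (G ≫ I.iCycles 0) (φ.f 0)
    (fun T x y h => by rw [← Category.assoc]; exact h0 x y h)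
  have hk₀ : Kills C I 0 f₀ := fun T x hx => by
    rw [← C.liftCycles_i x 1 (by simp) hx, Category.assoc, reassoc_of% hf₀,
      HomologicalComplex.iCycles_d, comp_zero, comp_zero]
  have hnext : ∀ (n : ℕ) (f : {f : C.X n ⟶ I.X n // j.f n ≫ f = φ.f n ∧ Kills C I n f}),
      ∃ g : {f : C.X (n + 1) ⟶ I.X (n + 1) // j.f (n + 1) ≫ f = φ.f (n + 1) ∧ Kills C I (n + 1) f},
        C.d n (n + 1) ≫ g.1 = f.1 ≫ I.d n (n + 1) := by
    intro n ⟨f, hf, hk⟩
    obtain ⟨g, hg1, hg2⟩ := extend₂ (C.d n (n + 1)) (j.f (n + 1)) (f ≫ I.d n (n + 1)) (φ.f (n + 1))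
      (fun T x y h => hstep n f hf hk x y h)
    refine ⟨⟨g, hg2, fun T x hx => ?_⟩, hg1⟩
    obtain ⟨T', π, hπ, a, ha⟩ := exists_preimage hC n x hx
    rw [← cancel_epi π, comp_zero, ← Category.assoc, ha, Category.assoc, reassoc_of% hg1,
      HomologicalComplex.d_comp_d, comp_zero, comp_zero]
  choose next hnext using hnext
  let F : ∀ n, {f : C.X n ⟶ I.X n // j.f n ≫ f = φ.f n ∧ Kills C I n f} :=
    fun n => Nat.rec (motive := fun n => {f : C.X n ⟶ I.X n // j.f n ≫ f = φ.f n ∧ Kills C I n f})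
      ⟨f₀, hf₀', hk₀⟩ next n
  let f : C ⟶ I :=
    { f := fun n => (F n).1
      comm' := fun a b hab => by
        obtain rfl : a + 1 = b := hab
        exact (hnext a (F a)).symm }
  refine ⟨f, HomologicalComplex.hom_ext _ _ fun n => (F n).2.1, ?_⟩
  rw [← cancel_mono (I.iCycles 0), HomologicalComplex.cyclesMap_i]
  exact hf₀

instance (C : CochainComplex V ℕ) : IsIso (C.homologyπ 0) :=
  C.isIso_homologyπ 0 0 (by simp) (C.shape _ _ (by simp))

/-- a map on zeroth homology seen on cycles -/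
noncomputable def onCycles {C I : CochainComplex V ℕ} (g : C.homology 0 ⟶ I.homology 0) : C.cycles 0 ⟶ I.cycles 0 :=
  C.homologyπ 0 ≫ g ≫ inv (I.homologyπ 0)

theorem homologyMap_eq {C I : CochainComplex V ℕ} {f : C ⟶ I} {g : C.homology 0 ⟶ I.homology 0}
    (h : HomologicalComplex.cyclesMap f 0 = onCycles g) : HomologicalComplex.homologyMap f 0 = g := by
  rw [← cancel_epi (C.homologyπ 0), HomologicalComplex.homologyπ_naturality, h, onCycles,
    Category.assoc, Category.assoc, IsIso.inv_hom_id, Category.comp_id]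

theorem onCycles_naturality {A B I J : CochainComplex V ℕ} (a : A ⟶ B) (b : I ⟶ J)
    {g : A.homology 0 ⟶ I.homology 0} {h : B.homology 0 ⟶ J.homology 0}
    (w : HomologicalComplex.homologyMap a 0 ≫ h = g ≫ HomologicalComplex.homologyMap b 0) :
    HomologicalComplex.cyclesMap a 0 ≫ onCycles h = onCycles g ≫ HomologicalComplex.cyclesMap b 0 := by
  rw [← cancel_mono (J.homologyπ 0)]
  simp only [onCycles, Category.assoc, IsIso.inv_hom_id, Category.comp_id]
  rw [← HomologicalComplex.homologyπ_naturality_assoc, w, ← HomologicalComplex.homologyπ_naturality,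
    IsIso.inv_hom_id_assoc]

theorem main (C' C C'' I' I I'' : CochainComplex V ℕ)
    (jC : C' ⟶ C) (πC : C ⟶ C'') (jI : I' ⟶ I) (πI : I ⟶ I'')
    (mC : ∀ n, Mono (jC.f n)) (wC : ∀ n, jC.f n ≫ πC.f n = 0)
    (exC : ∀ n, (ShortComplex.mk (jC.f n) (πC.f n) (wC n)).Exact)
    (wI : ∀ n, jI.f n ≫ πI.f n = 0)
    (hC' : ∀ n, 0 < n → C'.ExactAt n) (hC : ∀ n, 0 < n → C.ExactAt n) (hC'' : ∀ n, 0 < n → C''.ExactAt n)
    (injI' : ∀ n, Injective (I'.X n)) (injI : ∀ n, Injective (I.X n)) (injI'' : ∀ n, Injective (I''.X n))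
    (g' : C'.homology 0 ⟶ I'.homology 0) (g : C.homology 0 ⟶ I.homology 0)
    (g'' : C''.homology 0 ⟶ I''.homology 0)
    (hg1 : HomologicalComplex.homologyMap jC 0 ≫ g = g' ≫ HomologicalComplex.homologyMap jI 0)
    (hg2 : HomologicalComplex.homologyMap πC 0 ≫ g'' = g ≫ HomologicalComplex.homologyMap πI 0) :
    ∃ (f' : C' ⟶ I') (f : C ⟶ I) (f'' : C'' ⟶ I''),
      jC ≫ f = f' ≫ jI ∧ πC ≫ f'' = f ≫ πI ∧
      HomologicalComplex.homologyMap f' 0 = g' ∧ HomologicalComplex.homologyMap f 0 = g ∧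
      HomologicalComplex.homologyMap f'' 0 = g'' := by
  haveI := mC
  obtain ⟨f', -, hf'⟩ := exists_hom (0 : C' ⟶ C') (0 : C' ⟶ I') hC' injI' (onCycles g')
    (fun T x y h => by
      simp only [HomologicalComplex.zero_f, comp_zero, add_zero] at h ⊢
      have hx : x = 0 := by rw [← cancel_mono (C'.iCycles 0), h, zero_comp]
      simp [hx])
    (fun n f _ hk T x y h => by
      simp only [HomologicalComplex.zero_f, comp_zero, add_zero] at h ⊢
      exact hk x h)
  obtain ⟨f, hfj, hf⟩ := exists_hom jC (f' ≫ jI) hC injI (onCycles g)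
    (fun T x y h => by
      have hy : y ≫ C'.d 0 1 = 0 := by
        rw [← cancel_mono (jC.f 1), Category.assoc, ← jC.comm, reassoc_of% (eq_neg_of_add_eq_zero_right h)]
        simp
      let y' := C'.liftCycles y 1 (by simp) hy
      have hy' : y' ≫ C'.iCycles 0 = y := C'.liftCycles_i _ _ _ _
      have hx : x = -(y' ≫ HomologicalComplex.cyclesMap jC 0) := by
        rw [← cancel_mono (C.iCycles 0), Preadditive.neg_comp, Category.assoc, HomologicalComplex.cyclesMap_i,
          reassoc_of% hy']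
        exact eq_neg_of_add_eq_zero_left h
      rw [hx, Preadditive.neg_comp, Preadditive.neg_comp, Category.assoc, Category.assoc,
        reassoc_of% (onCycles_naturality jC jI hg1), HomologicalComplex.comp_f, ← hf',
        HomologicalComplex.cyclesMap_i, HomologicalComplex.cyclesMap_i_assoc, reassoc_of% hy', neg_add_cancel])
    (fun n f hjf hk T x y h => by
      have hy : y ≫ C'.d (n + 1) (n + 2) = 0 := by
        rw [← cancel_mono (jC.f (n + 2)), Category.assoc, ← jC.comm,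
          reassoc_of% (eq_neg_of_add_eq_zero_right h)]
        simp
      obtain ⟨T', π, hπ, b, hb⟩ := exists_preimage hC' n y hy
      have hz : (π ≫ x + b ≫ jC.f n) ≫ C.d n (n + 1) = 0 := by
        rw [Preadditive.add_comp, Category.assoc, Category.assoc, jC.comm, ← reassoc_of% hb, ← Preadditive.comp_add, h, comp_zero]
      have h2 := hk _ hz
      rw [← cancel_epi π, comp_zero, Preadditive.comp_add, reassoc_of% hb]
      rw [Preadditive.add_comp, Category.assoc, Category.assoc, reassoc_of% hjf] at h2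
      rw [← h2, (f' ≫ jI).comm])
  obtain ⟨f'', hfπ, hf''⟩ := exists_hom πC (f ≫ πI) hC'' injI'' (onCycles g'')
    (fun T x y h => by
      have hy : (y ≫ C.d 0 1) ≫ πC.f 1 = 0 := by
        rw [Category.assoc, ← πC.comm, reassoc_of% (eq_neg_of_add_eq_zero_right h)]
        simp
      let c := (exC 1).lift (y ≫ C.d 0 1) hy
      have hc : c ≫ jC.f 1 = y ≫ C.d 0 1 := (exC 1).lift_f _ hy
      have hcd : c ≫ C'.d 1 2 = 0 := by
        rw [← cancel_mono (jC.f 2), Category.assoc, ← jC.comm, reassoc_of% hc]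
        simp
      obtain ⟨T', π, hπ, b, hb⟩ := exists_preimage hC' 0 c hcd
      have hz : (π ≫ y - b ≫ jC.f 0) ≫ C.d 0 1 = 0 := by
        rw [Preadditive.sub_comp, Category.assoc, Category.assoc, ← hc, jC.comm, reassoc_of% hb, sub_self]
      let y' := C.liftCycles (π ≫ y - b ≫ jC.f 0) 1 (by simp) hz
      have hy' : y' ≫ C.iCycles 0 = π ≫ y - b ≫ jC.f 0 := C.liftCycles_i _ _ _ _
      have hx : π ≫ x = -(y' ≫ HomologicalComplex.cyclesMap πC 0) := by
        rw [← cancel_mono (C''.iCycles 0), Preadditive.neg_comp, Category.assoc, Category.assoc,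
          HomologicalComplex.cyclesMap_i, reassoc_of% hy', Preadditive.sub_comp, Category.assoc, Category.assoc,
          wC 0, comp_zero, sub_zero, eq_neg_of_add_eq_zero_left h, Preadditive.comp_neg]
      rw [← cancel_epi π, comp_zero, Preadditive.comp_add, Category.assoc x, reassoc_of% hx]
      simp only [Preadditive.neg_comp, Category.assoc]
      rw [reassoc_of% (onCycles_naturality πC πI hg2), ← hf, HomologicalComplex.cyclesMap_i,
        HomologicalComplex.cyclesMap_i_assoc, reassoc_of% hy', HomologicalComplex.comp_f, Preadditive.sub_comp,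
        Category.assoc, Category.assoc]
      have h1 : jC.f 0 ≫ f.f 0 ≫ πI.f 0 = 0 := by
        rw [← HomologicalComplex.comp_f_assoc, hfj, HomologicalComplex.comp_f, Category.assoc, wI, comp_zero]
      rw [h1, comp_zero, sub_zero, neg_add_cancel])
    (fun n f'' hπf hk T x y h => by
      have hy : (y ≫ C.d (n + 1) (n + 2)) ≫ πC.f (n + 2) = 0 := by
        rw [Category.assoc, ← πC.comm, reassoc_of% (eq_neg_of_add_eq_zero_right h)]
        simp
      let c := (exC (n + 2)).lift (y ≫ C.d (n + 1) (n + 2)) hy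
      have hc : c ≫ jC.f (n + 2) = y ≫ C.d (n + 1) (n + 2) := (exC (n + 2)).lift_f _ hy
      have hcd : c ≫ C'.d (n + 2) (n + 3) = 0 := by
        rw [← cancel_mono (jC.f (n + 3)), Category.assoc, ← jC.comm, reassoc_of% hc]
        simp
      obtain ⟨T₁, π₁, hπ₁, b, hb⟩ := exists_preimage hC' (n + 1) c hcd
      have hz : (π₁ ≫ y - b ≫ jC.f (n + 1)) ≫ C.d (n + 1) (n + 2) = 0 := by
        rw [Preadditive.sub_comp, Category.assoc, Category.assoc, ← hc, jC.comm, reassoc_of% hb, sub_self]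
      obtain ⟨T₂, π₂, hπ₂, a, ha⟩ := exists_preimage hC n _ hz
      have e1 : π₂ ≫ π₁ ≫ y ≫ πC.f (n + 1) = a ≫ πC.f n ≫ C''.d n (n + 1) := by
        have := ha =≫ πC.f (n + 1)
        simp only [Category.assoc, Preadditive.sub_comp, Preadditive.comp_sub, wC, comp_zero, sub_zero] at this
        rw [this, ← πC.comm]
      have h1 : jC.f (n + 1) ≫ f.f (n + 1) ≫ πI.f (n + 1) = 0 := by
        rw [← HomologicalComplex.comp_f_assoc, hfj, HomologicalComplex.comp_f, Category.assoc, wI, comp_zero]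
      have hz2 : (π₂ ≫ π₁ ≫ x + a ≫ πC.f n) ≫ C''.d n (n + 1) = 0 := by
        have := (π₂ ≫ π₁) ≫= h
        simp only [Preadditive.comp_add, comp_zero, Category.assoc] at this
        rw [e1] at this
        simpa only [Preadditive.add_comp, Category.assoc] using this
      have h2 := hk _ hz2
      simp only [Preadditive.add_comp, Category.assoc] at h2
      rw [reassoc_of% hπf] at h2
      have e2 : π₂ ≫ π₁ ≫ y ≫ (f ≫ πI).f (n + 1) = a ≫ (f ≫ πI).f n ≫ I''.d n (n + 1) := by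
        have := ha =≫ (f ≫ πI).f (n + 1)
        simp only [Category.assoc, Preadditive.sub_comp, Preadditive.comp_sub, HomologicalComplex.comp_f, h1,
          comp_zero, sub_zero] at this
        rw [HomologicalComplex.comp_f, this, (f ≫ πI).comm, HomologicalComplex.comp_f]
      rw [← cancel_epi π₁, ← cancel_epi π₂, comp_zero, comp_zero, Preadditive.comp_add, Preadditive.comp_add, e2]
      exact h2)
  exact ⟨f', f, f'', hfj, hfπ, homologyMap_eq hf', homologyMap_eq hf, homologyMap_eq hf''⟩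

end LadderResLib
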